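import Groth.Prelude.Def_PicLoc
import Mathlib.CategoryTheory.Limits.Types.Filtered
import Mathlib.CategoryTheory.Limits.Preserves.Filtered
import Mathlib.Algebra.Category.Ring.Colimits
import Mathlib.Algebra.Category.Ring.FilteredColimits
import Mathlib.RingTheory.Henselian

/-!
Henselized tensor product families commute with filtered colimits of algebras.
-/

set_option autoImplicit false
set_option linter.unusedSectionVars false
set_option linter.style.haveILetI false
set_option backward.isDefEq.respectTransparency false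
set_option backward.isDefEq.respectTransparency.types false

universe u

open CategoryTheory CategoryTheory.Limits Opposite Polynomial TensorProduct

noncomputable section

namespace Groth.Agent.PicLocLim

section colim

variable {J : Type u} [SmallCategory J] [IsFiltered J] {F : J ⥤ CommRingCat.{u}} {c : Cocone F} (hc : IsColimit c)

include hc

theorem exists_rep (y : c.pt) : ∃ (j : J) (x : F.obj j), c.ι.app j x = y :=
  Types.jointly_surjective _ (isColimitOfPreserves (forget CommRingCat.{u}) hc) y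

theorem exists_eq {i j : J} (x : F.obj i) (y : F.obj j) (h : c.ι.app i x = c.ι.app j y) :
    ∃ (k : J) (g : i ⟶ k) (g' : j ⟶ k), F.map g x = F.map g' y :=
  (Types.FilteredColimit.isColimit_eq_iff _ (isColimitOfPreserves (forget CommRingCat.{u}) hc)).1 h

theorem exists_rep_family {ι : Type*} [Finite ι] (y : ι → c.pt) :
    ∃ (j : J) (x : ι → F.obj j), ∀ a, c.ι.app j (x a) = y a := by
  classical
  haveI := Fintype.ofFinite ι
  choose j x hx using fun a => exists_rep hc (y a)
  obtain ⟨k, hk⟩ := IsFiltered.sup_objs_exists (Finset.univ.image j)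
  refine ⟨k, fun a => F.map (hk (Finset.mem_image_of_mem j (Finset.mem_univ a))).some (x a), fun a => ?_⟩
  exact (ConcreteCategory.congr_hom (c.w _) (x a)).trans (hx a)

variable {R : Type u} [CommRing R] (a : ∀ j, R →+* F.obj j)
  (ha : ∀ {i j : J} (g : i ⟶ j), (F.map g).hom.comp (a i) = a j) {φ : R →+* c.pt}
  (hφ : ∀ j, (c.ι.app j).hom.comp (a j) = φ) (I : Ideal R)

include ha hφ

theorem exists_mem_rep (y : c.pt) (hy : y ∈ I.map φ) :
    ∃ (j : J) (x : F.obj j), x ∈ I.map (a j) ∧ c.ι.app j x = y := by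
  haveI : Nonempty J := IsFiltered.nonempty
  obtain ⟨j₀⟩ := ‹Nonempty J›
  refine Submodule.span_induction (p := fun y _ => ∃ (j : J) (x : F.obj j), x ∈ I.map (a j) ∧ c.ι.app j x = y)
    ?_ ?_ ?_ ?_ hy
  · rintro _ ⟨r, hr, rfl⟩
    exact ⟨j₀, a j₀ r, Ideal.mem_map_of_mem _ hr, RingHom.congr_fun (hφ j₀) r⟩
  · exact ⟨j₀, 0, Submodule.zero_mem _, map_zero _⟩
  · rintro _ _ _ _ ⟨i, x, hx, rfl⟩ ⟨j, z, hz, rfl⟩
    refine ⟨IsFiltered.max i j, F.map (IsFiltered.leftToMax i j) x + F.map (IsFiltered.rightToMax i j) z,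
      Ideal.add_mem _ ?_ ?_, ?_⟩
    · rw [← ha (IsFiltered.leftToMax i j), ← Ideal.map_map]
      exact Ideal.mem_map_of_mem _ hx
    · rw [← ha (IsFiltered.rightToMax i j), ← Ideal.map_map]
      exact Ideal.mem_map_of_mem _ hz
    · rw [map_add]
      exact congrArg₂ (· + ·) (ConcreteCategory.congr_hom (c.w _) x) (ConcreteCategory.congr_hom (c.w _) z)
  · rintro s _ _ ⟨j, z, hz, rfl⟩
    obtain ⟨i, x, rfl⟩ := exists_rep hc s
    refine ⟨IsFiltered.max i j, F.map (IsFiltered.leftToMax i j) x * F.map (IsFiltered.rightToMax i j) z,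
      Ideal.mul_mem_left _ _ ?_, ?_⟩
    · rw [← ha (IsFiltered.rightToMax i j), ← Ideal.map_map]
      exact Ideal.mem_map_of_mem _ hz
    · rw [smul_eq_mul, map_mul]
      exact congrArg₂ (· * ·) (ConcreteCategory.congr_hom (c.w _) x) (ConcreteCategory.congr_hom (c.w _) z)

theorem exists_mem {i : J} (x : F.obj i) (hx : c.ι.app i x ∈ I.map φ) :
    ∃ (j : J) (g : i ⟶ j), F.map g x ∈ I.map (a j) := by
  obtain ⟨j, z, hz, e⟩ := exists_mem_rep hc a ha hφ I _ hx
  obtain ⟨k, g, g', h⟩ := exists_eq hc x z e.symm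
  refine ⟨k, g, ?_⟩
  rw [h, ← ha g', ← Ideal.map_map]
  exact Ideal.mem_map_of_mem _ hz

/-- A filtered colimit of henselian pairs is henselian. -/
theorem henselianRing_colimit (hh : ∀ j, HenselianRing (F.obj j) (I.map (a j))) :
    HenselianRing c.pt (I.map φ) := by
  have hι : ∀ {i j : J} (g : i ⟶ j) (x : F.obj i), c.ι.app j (F.map g x) = c.ι.app i x :=
    fun g x => ConcreteCategory.congr_hom (c.w g) x
  refine ⟨fun x hx => Ideal.mem_jacobson_bot.mpr fun y => ?_, fun f hf a₀ h₁ h₂ => ?_⟩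
  · obtain ⟨i, x', hx', rfl⟩ := exists_mem_rep hc a ha hφ I x hx
    obtain ⟨j, y', rfl⟩ := exists_rep hc y
    have hm : F.map (IsFiltered.leftToMax i j) x' ∈ I.map (a (IsFiltered.max i j)) := by
      rw [← ha (IsFiltered.leftToMax i j), ← Ideal.map_map]
      exact Ideal.mem_map_of_mem _ hx'
    have := (Ideal.mem_jacobson_bot.mp ((hh _).jac hm) (F.map (IsFiltered.rightToMax i j) y')).map
      (c.ι.app (IsFiltered.max i j)).hom
    rw [map_add, map_mul, map_one] at this
    rwa [hι, hι] at this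
  · obtain ⟨y, hy⟩ := h₂.exists_right_inv
    obtain ⟨y, rfl⟩ := Ideal.Quotient.mk_surjective y
    rw [← map_mul, ← map_one (Ideal.Quotient.mk _), Ideal.Quotient.eq] at hy
    obtain ⟨j, v, hv⟩ := exists_rep_family hc
      (Sum.elim (fun m : Fin f.natDegree => f.coeff (m : ℕ)) ![a₀, y])
    let g : (F.obj j)[X] := X ^ f.natDegree + ∑ m : Fin f.natDegree, C (v (Sum.inl m)) * X ^ (m : ℕ)
    have hg : g.map (c.ι.app j).hom = f := by
      conv_rhs => rw [hf.as_sum, Finset.sum_range]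
      simp only [g, Polynomial.map_add, Polynomial.map_pow, map_X, Polynomial.map_sum, Polynomial.map_mul, map_C]
      congr 1
      exact Finset.sum_congr rfl fun m _ => by rw [show (c.ι.app j).hom (v (Sum.inl m)) = _ from hv (Sum.inl m)]; rfl
    have hgm : g.Monic := monic_X_pow_add (degree_sum_fin_lt _)
    have he : ∀ (q : (F.obj j)[X]) (x : F.obj j), (q.map (c.ι.app j).hom).eval (c.ι.app j x) = c.ι.app j (q.eval x) :=
      fun q x => Polynomial.eval_map_apply _ _
    have e0 : c.ι.app j (v (Sum.inr 0)) = a₀ := hv (Sum.inr 0)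
    have e1 : c.ι.app j (v (Sum.inr 1)) = y := hv (Sum.inr 1)
    have m₁ : c.ι.app j (g.eval (v (Sum.inr 0))) ∈ I.map φ := by
      rw [← he, hg, e0]
      exact h₁
    have m₂ : c.ι.app j (g.derivative.eval (v (Sum.inr 0)) * v (Sum.inr 1) - 1) ∈ I.map φ := by
      rw [map_sub, map_mul, map_one, ← he, ← derivative_map, hg, e0, e1]
      exact hy
    obtain ⟨k₁, g₁, hk₁⟩ := exists_mem hc a ha hφ I _ m₁
    obtain ⟨k₂, g₂, hk₂⟩ := exists_mem hc a ha hφ I _ ((hι g₁ _).symm ▸ m₂)
    let t : j ⟶ k₂ := g₁ ≫ g₂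
    have ht : ∀ x, (F.map t).hom x = F.map g₂ (F.map g₁ x) := fun x =>
      ConcreteCategory.congr_hom (F.map_comp g₁ g₂) x
    obtain ⟨b, hb, hb'⟩ := (hh k₂).is_henselian (g.map (F.map t).hom) (hgm.map _) ((F.map t).hom (v (Sum.inr 0)))
      (by
        rw [Polynomial.eval_map_apply, ht, ← ha g₂, ← Ideal.map_map]
        exact Ideal.mem_map_of_mem _ hk₁)
      (by
        rw [derivative_map, Polynomial.eval_map_apply]
        refine IsUnit.of_mul_eq_one (Ideal.Quotient.mk _ ((F.map t).hom (v (Sum.inr 1)))) ?_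
        rw [← map_mul, ← map_one (Ideal.Quotient.mk _), Ideal.Quotient.eq, ← map_mul, ← map_one (F.map t).hom,
          ← map_sub, ht]
        exact hk₂)
    refine ⟨c.ι.app k₂ b, ?_, ?_⟩
    · have h := congrArg (c.ι.app k₂).hom hb
      rw [map_zero, ← Polynomial.eval_map_apply, Polynomial.map_map] at h
      rw [show (c.ι.app k₂).hom.comp (F.map t).hom = (c.ι.app j).hom from congrArg CommRingCat.Hom.hom (c.w t),
        hg] at h
      exact h
    · have h := Ideal.mem_map_of_mem (c.ι.app k₂).hom hb'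
      rw [Ideal.map_map, hφ k₂, map_sub] at h
      rw [← e0, ← hι t]
      exact h

end colim

section family

variable {k : Type u} [CommRing k] {R : Type u} [CommRing R] [IsLocalRing R] [Algebra k R] (𝓗 : PicLoc.HensFamily k R)

/-- The comparison map as a ring map. -/
def eta (A : CommAlgCat.{u} k) : R ⊗[k] A →+* (𝓗.G.obj A).right := (𝓗.η.app A).right.hom

theorem eta_left (A : CommAlgCat.{u} k) (r : R) : eta 𝓗 A (r ⊗ₜ 1) = (𝓗.G.obj A).hom r :=
  ConcreteCategory.congr_hom (Under.w (𝓗.η.app A)) r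

theorem eta_nat {A B : CommAlgCat.{u} k} (g : A ⟶ B) (r : R) (x : A) :
    (𝓗.G.map g).right (eta 𝓗 A (r ⊗ₜ x)) = eta 𝓗 B (r ⊗ₜ g.hom x) :=
  (ConcreteCategory.congr_hom (congrArg CommaMorphism.right (𝓗.η.naturality g)) (r ⊗ₜ x)).symm

theorem map_mExt (A : CommAlgCat.{u} k) :
    (PicLoc.mExt k R A).map (eta 𝓗 A) = (IsLocalRing.maximalIdeal R).map (𝓗.G.obj A).hom.hom := by
  rw [PicLoc.mExt, Ideal.map_map]
  congr 1
  exact RingHom.ext fun r => eta_left 𝓗 A r

theorem henselianRing (A : CommAlgCat.{u} k) :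
    HenselianRing (𝓗.G.obj A).right ((IsLocalRing.maximalIdeal R).map (𝓗.G.obj A).hom.hom) :=
  map_mExt 𝓗 A ▸ (𝓗.isHens A).1

theorem hom_unique (A : CommAlgCat.{u} k) (C : Type u) [CommRing C] (φ : R →+* C)
    (hC : HenselianRing C ((IsLocalRing.maximalIdeal R).map φ)) (f : R ⊗[k] A →+* C)
    (hf : ∀ r, f (r ⊗ₜ 1) = φ r) {g g' : ↑(𝓗.G.obj A).right →+* C}
    (hg : g.comp (eta 𝓗 A) = f) (hg' : g'.comp (eta 𝓗 A) = f) : g = g' :=
  ((𝓗.isHens A).2 C _ f hC (by rw [PicLoc.mExt, Ideal.map_map]; exact (congrArg (Ideal.map · _) (RingHom.ext hf)).le)).unique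
    hg hg'

theorem hom_exists (A : CommAlgCat.{u} k) (C : Type u) [CommRing C] (φ : R →+* C)
    (hC : HenselianRing C ((IsLocalRing.maximalIdeal R).map φ)) (f : R ⊗[k] A →+* C)
    (hf : ∀ r, f (r ⊗ₜ 1) = φ r) : ∃ g : ↑(𝓗.G.obj A).right →+* C, g.comp (eta 𝓗 A) = f :=
  ((𝓗.isHens A).2 C _ f hC (by rw [PicLoc.mExt, Ideal.map_map]; exact (congrArg (Ideal.map · _) (RingHom.ext hf)).le)).exists

variable {J : Type u} [SmallCategory J] [IsFiltered J] (A : J ⥤ CommAlgCat.{u} k) (cA : Cocone A)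
  (hcA : IsColimit ((forget₂ (CommAlgCat.{u} k) CommRingCat.{u}).mapCocone cA))

include hcA in
/-- **A henselized tensor product commutes with filtered colimits.** -/
theorem nonempty_isColimit : Nonempty (IsColimit ((𝓗.G ⋙ Under.forget _).mapCocone cA)) := by
  haveI : Nonempty J := IsFiltered.nonempty
  obtain ⟨j₀⟩ := ‹Nonempty J›
  let G' := A ⋙ 𝓗.G ⋙ Under.forget _
  let cC := colimit.cocone G'
  let hC : IsColimit cC := colimit.isColimit G'
  let a : ∀ j, R →+* G'.obj j := fun j => (𝓗.G.obj (A.obj j)).hom.hom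
  let φ : R →+* cC.pt := (cC.ι.app j₀).hom.comp (a j₀)
  have ha : ∀ {i j : J} (g : i ⟶ j), (G'.map g).hom.comp (a i) = a j := fun g =>
    congrArg CommRingCat.Hom.hom (Under.w (𝓗.G.map (A.map g)))
  have hφ : ∀ j, (cC.ι.app j).hom.comp (a j) = φ := fun j => by
    have e : ∀ {i j : J} (g : i ⟶ j), (cC.ι.app i).hom.comp (a i) = (cC.ι.app j).hom.comp (a j) := fun g => by
      rw [← ha g, ← RingHom.comp_assoc]
      exact congrArg (fun q => RingHom.comp q _) (congrArg CommRingCat.Hom.hom (cC.w g)).symm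
    exact (e (IsFiltered.leftToMax j j₀)).trans (e (IsFiltered.rightToMax j j₀)).symm
  have hHens : HenselianRing cC.pt ((IsLocalRing.maximalIdeal R).map φ) :=
    henselianRing_colimit hC a ha hφ _ fun j => henselianRing 𝓗 _
  -- the map from the tensor product
  let inc : ∀ j, ↑(A.obj j) →+* cC.pt := fun j =>
    (cC.ι.app j).hom.comp ((eta 𝓗 (A.obj j)).comp
      (Algebra.TensorProduct.includeRight : ↑(A.obj j) →ₐ[k] R ⊗[k] ↑(A.obj j)).toRingHom)
  let cI : Cocone (A ⋙ forget₂ (CommAlgCat.{u} k) CommRingCat.{u}) :=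
    { pt := cC.pt
      ι := { app := fun j => CommRingCat.ofHom (inc j)
             naturality := fun i j g => by
               refine (CommRingCat.hom_ext (RingHom.ext fun x => ?_)).trans (Category.comp_id _).symm
               show cC.ι.app j (eta 𝓗 (A.obj j) (1 ⊗ₜ (A.map g).hom x)) = cC.ι.app i (eta 𝓗 (A.obj i) (1 ⊗ₜ x))
               rw [← eta_nat]
               exact ConcreteCategory.congr_hom (cC.w g) _ } }
  let w : ↑cA.pt →+* cC.pt := (hcA.desc cI).hom
  have hw : ∀ j (x : ↑(A.obj j)), w ((cA.ι.app j).hom x) = inc j x := fun j x =>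
    ConcreteCategory.congr_hom (hcA.fac cI j) x
  letI : Algebra k cC.pt := (φ.comp (algebraMap k R)).toAlgebra
  let φ' : R →ₐ[k] cC.pt := { φ with commutes' := fun r => rfl }
  have hwk : ∀ r : k, w (algebraMap k cA.pt r) = algebraMap k cC.pt r := fun r => by
    show w (algebraMap k cA.pt r) = φ (algebraMap k R r)
    rw [← (show (cA.ι.app j₀).hom (algebraMap k (A.obj j₀) r) = algebraMap k cA.pt r from (cA.ι.app j₀).hom.commutes r)]
    refine (hw j₀ _).trans ?_
    show cC.ι.app j₀ (eta 𝓗 _ (1 ⊗ₜ algebraMap k _ r)) = _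
    rw [show (1 : R) ⊗ₜ[k] (algebraMap k (A.obj j₀) r) = algebraMap k R r ⊗ₜ 1 from
      (Algebra.TensorProduct.tmul_one_eq_one_tmul r).symm, eta_left]
    rfl
  let w' : ↑cA.pt →ₐ[k] cC.pt := { w with commutes' := hwk }
  let f : R ⊗[k] ↑cA.pt →+* cC.pt := (Algebra.TensorProduct.lift φ' w' fun _ _ => Commute.all _ _).toRingHom
  have hf : ∀ r, f (r ⊗ₜ 1) = φ r := fun r => by
    show φ r * w 1 = _
    rw [map_one, mul_one]
  have hft : ∀ j r (x : ↑(A.obj j)), f (r ⊗ₜ (cA.ι.app j).hom x) = cC.ι.app j (eta 𝓗 _ (r ⊗ₜ x)) := fun j r x => by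
    show φ r * w ((cA.ι.app j).hom x) = _
    rw [hw, show r ⊗ₜ[k] x = (r ⊗ₜ 1) * (1 ⊗ₜ x) by simp, map_mul, map_mul, eta_left]
    rw [show φ r = cC.ι.app j ((𝓗.G.obj (A.obj j)).hom r) from (RingHom.congr_fun (hφ j) r).symm]
    rfl
  obtain ⟨g, hg⟩ := hom_exists 𝓗 cA.pt cC.pt φ hHens f hf
  let h : cC.pt ⟶ (𝓗.G.obj cA.pt).right := hC.desc ((𝓗.G ⋙ Under.forget _).mapCocone cA)
  have hh : ∀ j x, h (cC.ι.app j x) = (𝓗.G.map (cA.ι.app j)).right x := fun j x =>
    ConcreteCategory.congr_hom (hC.fac _ j) x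
  have h1 : h.hom.comp g = RingHom.id _ := by
    refine hom_unique 𝓗 cA.pt _ (𝓗.G.obj cA.pt).hom.hom (henselianRing 𝓗 _) (eta 𝓗 cA.pt) (eta_left 𝓗 _) ?_
      (RingHom.id_comp _)
    rw [RingHom.comp_assoc, hg]
    refine RingHom.ext fun t => ?_
    induction t using TensorProduct.induction_on with
    | zero => simp
    | tmul r x =>
      obtain ⟨j, x, rfl⟩ := exists_rep hcA x
      show h (f (r ⊗ₜ (cA.ι.app j).hom x)) = eta 𝓗 cA.pt (r ⊗ₜ (cA.ι.app j).hom x)
      rw [hft, hh, eta_nat]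
      rfl
    | add x y hx hy => simp only [map_add, hx, hy]
  have h2 : h ≫ CommRingCat.ofHom g = 𝟙 cC.pt := by
    refine hC.hom_ext fun j => CommRingCat.hom_ext ?_
    refine hom_unique 𝓗 (A.obj j) cC.pt φ hHens ((cC.ι.app j).hom.comp (eta 𝓗 (A.obj j))) ?_ ?_ ?_
    · intro r
      show cC.ι.app j (eta 𝓗 _ (r ⊗ₜ 1)) = _
      rw [eta_left]
      exact RingHom.congr_fun (hφ j) r
    · refine RingHom.ext fun t => ?_
      show g (h (cC.ι.app j (eta 𝓗 _ t))) = cC.ι.app j (eta 𝓗 _ t)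
      rw [hh]
      induction t using TensorProduct.induction_on with
      | zero => simp only [map_zero]
      | tmul r x =>
        rw [eta_nat, ← hft]
        exact RingHom.congr_fun hg _
      | add x y hx hy => simp only [map_add, hx, hy]
    · rw [Category.comp_id]
  exact ⟨IsColimit.ofIsoColimit hC (Cocone.ext ⟨h, CommRingCat.ofHom g, h2, CommRingCat.hom_ext h1⟩
    fun j => hC.fac _ j)⟩

end family

end Groth.Agent.PicLocLim
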