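import Groth.Agent.PicLocLim.Hens
import Groth.Agent.LimPic.Iso
import Groth.Agent.PicClLib.Basic
import Groth.Agent.H23.PicMul
import Groth.Prelude.Def_AlgSpRep
import Mathlib.AlgebraicGeometry.AffineTransitionLimit
import Mathlib.CategoryTheory.Limits.Constructions.Over.Connected

/-!
The functor of classes on henselized base changes is locally of finite presentation.
-/

set_option autoImplicit false
set_option linter.unusedSectionVars false
set_option linter.style.haveILetI false
set_option backward.isDefEq.respectTransparency false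
set_option backward.isDefEq.respectTransparency.types false
set_option maxHeartbeats 800000

universe u

open CategoryTheory CategoryTheory.Limits AlgebraicGeometry Opposite

noncomputable section

namespace Groth.Agent.PicLocLim

section twist

variable {k : Type u} [CommRing k] {R : Type u} [CommRing R] {X : Scheme.{u}} (f : X ⟶ Spec (CommRingCat.of R))
  (G : PicLoc.RFam k R) {I : Type u} [SmallCategory I] (A : Iᵒᵖ ⥤ CommAlgCat.{u} k) (cA : Cocone A)

/-- The rings of the twisted system. -/
abbrev rgs : Iᵒᵖ ⥤ CommRingCat.{u} := A ⋙ G ⋙ Under.forget _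

/-- Their spectra. -/
abbrev bas : I ⥤ Scheme.{u} := (rgs G A).rightOp ⋙ Scheme.Spec

/-- The twisted system. -/
abbrev sys : I ⥤ Scheme.{u} := A.rightOp ⋙ PicLoc.twist f G

/-- The twisted cone. -/
abbrev twCone : Cone (sys f G A) := (PicLoc.twist f G).mapCone (coneRightOpOfCocone cA)

theorem twist_fst {B C : (CommAlgCat.{u} k)ᵒᵖ} (g : B ⟶ C) :
    (PicLoc.twist f G).map g ≫ pullback.fst f (Spec.map (G.obj C.unop).hom) = pullback.fst f (Spec.map (G.obj B.unop).hom) :=
  (pullback.lift_fst _ _ _).trans (Category.comp_id _)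

theorem twist_snd {B C : (CommAlgCat.{u} k)ᵒᵖ} (g : B ⟶ C) :
    (PicLoc.twist f G).map g ≫ pullback.snd f (Spec.map (G.obj C.unop).hom) =
      pullback.snd f (Spec.map (G.obj B.unop).hom) ≫ Spec.map (G.map g.unop).right :=
  pullback.lift_snd _ _ _

theorem isPullback_twist {B C : (CommAlgCat.{u} k)ᵒᵖ} (g : B ⟶ C) :
    IsPullback ((PicLoc.twist f G).map g) (pullback.snd f (Spec.map (G.obj B.unop).hom))
      (pullback.snd f (Spec.map (G.obj C.unop).hom)) (Spec.map (G.map g.unop).right) := by
  refine IsPullback.of_right ?_ (twist_snd f G g) (IsPullback.of_hasPullback f _)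
  rw [twist_fst, ← Spec.map_comp, Under.w]
  exact IsPullback.of_hasPullback f _

/-- The projection to the spectra. -/
def toBas : sys f G A ⟶ bas G A where
  app i := pullback.snd f (Spec.map (G.obj (A.obj (op i))).hom)
  naturality i j g := twist_snd f G (A.map g.op).op

theorem twCone_w (i : I) :
    pullback.snd f (Spec.map (G.obj cA.pt).hom) ≫ Spec.map (G.map (cA.ι.app (op i))).right =
      (twCone f G A cA).π.app i ≫ (toBas f G A).app i :=
  (twist_snd f G (cA.ι.app (op i)).op).symm

/-- The cone of spectra. -/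
abbrev basCone : Cone (bas G A) := Scheme.Spec.mapCone (coneRightOpOfCocone ((G ⋙ Under.forget _).mapCocone cA))

/-- The map of cones. -/
def twHom : (Cone.postcompose (toBas f G A)).obj (twCone f G A cA) ⟶ basCone G A cA where
  hom := pullback.snd f (Spec.map (G.obj cA.pt).hom)
  w i := twCone_w f G A cA i

/-- The twisted cone is limiting. -/
def isLimit_twCone [IsCofiltered I] (h : IsColimit ((G ⋙ Under.forget _).mapCocone cA)) :
    IsLimit (twCone f G A cA) := by
  haveI : PreservesLimitsOfSize.{u, u} Scheme.Spec.{u} := ΓSpec.adjunction.rightAdjoint_preservesLimits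
  haveI : IsConnected I := IsCofiltered.isConnected _
  exact isLimitOfIsPullbackOfIsConnected (toBas f G A) (twCone f G A cA) (basCone G A cA) (twHom f G A cA)
    (fun i => isPullback_twist f G (cA.ι.app (op i)).op)
    (isLimitOfPreserves Scheme.Spec (isLimitConeRightOpOfCocone _ h))

instance {i j : I} (g : i ⟶ j) : IsAffineHom ((sys f G A).map g) :=
  MorphismProperty.of_isPullback (isPullback_twist f G (A.map g.op).op).flip
    (inferInstanceAs (IsAffineHom (Spec.map _)))

instance [QuasiCompact f] (i : I) : CompactSpace ((sys f G A).obj i) :=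
  QuasiCompact.compactSpace_of_compactSpace (pullback.snd f (Spec.map (G.obj (A.obj (op i))).hom))

instance [QuasiSeparated f] (i : I) : QuasiSeparatedSpace ((sys f G A).obj i) :=
  quasiSeparatedSpace_of_quasiSeparated (pullback.snd f (Spec.map (G.obj (A.obj (op i))).hom))

end twist

/-- Classes of invertible modules commute with limits of quasi-compact quasi-separated systems. -/
theorem isColimit_invCl {I : Type u} [SmallCategory I] [IsCofiltered I] {D : I ⥤ Scheme.{u}} {c : Cone D}
    (hc : IsLimit c) [∀ {i j : I} (f : i ⟶ j), IsAffineHom (D.map f)] [∀ i, CompactSpace (D.obj i)]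
    [∀ i, QuasiSeparatedSpace (D.obj i)] : Nonempty (IsColimit (PicLoc.invCl.mapCocone c.op)) := by
  refine ⟨Types.FilteredColimit.isColimitOf _ _ (fun z => ?_) fun i j xi xj h => ?_⟩
  · obtain ⟨z, L, rfl, hL⟩ := z
    obtain ⟨i, M, hM, ⟨e⟩⟩ := LimPic.exists_invertible hc L hL
    exact ⟨op i, ⟨PicF.cl M, M, rfl, hM⟩, Subtype.ext (Quot.sound ⟨e⟩).symm⟩
  · obtain ⟨_, M, rfl, hM⟩ := xi
    obtain ⟨_, N, rfl, hN⟩ := xj
    let l := IsCofiltered.min i.unop j.unop
    let p := IsCofiltered.minToLeft i.unop j.unop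
    let q := IsCofiltered.minToRight i.unop j.unop
    have h' : PicF.pullCl (c.π.app l) (PicF.pullCl (D.map p) (PicF.cl M)) =
        PicF.pullCl (c.π.app l) (PicF.pullCl (D.map q) (PicF.cl N)) := by
      rw [PicClLib.pullCl_comp, PicClLib.pullCl_comp, c.w, c.w]
      exact congrArg Subtype.val h
    obtain ⟨φ⟩ := H23.PicMul.cl_eq_iff.1 h'
    obtain ⟨m, ⟨ψ⟩⟩ := LimPic.exists_iso hc (i := l) (PicClLib.isInvertible_pullback _ hM)
      (PicClLib.isInvertible_pullback _ hN) φ
    refine ⟨op m.left, (m.hom ≫ p).op, (m.hom ≫ q).op, Subtype.ext ?_⟩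
    show PicF.pullCl (D.map (m.hom ≫ p)) (PicF.cl M) = PicF.pullCl (D.map (m.hom ≫ q)) (PicF.cl N)
    rw [D.map_comp, D.map_comp, ← PicClLib.pullCl_comp, ← PicClLib.pullCl_comp]
    exact H23.PicMul.cl_eq_iff.2 ⟨ψ⟩

/-- Functions on a limit of affine schemes. -/
theorem isColimit_ΓAlg (k : Type u) [CommRing k] {I : Type u} [SmallCategory I] [IsCofiltered I]
    {D : I ⥤ Over (PicLoc.base k)} {c : Cone D} (hc : IsLimit ((Over.forget _).mapCone c))
    (hD : ∀ i, IsAffine (D.obj i).left) :
    Nonempty (IsColimit ((forget₂ (CommAlgCat.{u} k) CommRingCat.{u}).mapCocone ((PicLoc.ΓAlg k).mapCocone c.op))) := by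
  haveI : ∀ i, IsAffine ((D ⋙ Over.forget _).obj i) := hD
  haveI : ∀ {i j} (g : i ⟶ j), IsAffineHom ((D ⋙ Over.forget _).map g) := fun {i j} g => inferInstance
  obtain ⟨h⟩ := nonempty_isColimit_Γ_mapCocone (D ⋙ Over.forget _) _ hc
  exact ⟨h⟩

/-- **The classes on henselized base changes are locally of finite presentation.** -/
theorem isLimitPreserving_prePic {k : Type u} [Field k] {R : Type u} [CommRing R] [IsLocalRing R] [Algebra k R]
    (𝓗 : PicLoc.HensFamily k R) {X : Scheme.{u}} (f : X ⟶ Spec (CommRingCat.of R)) [QuasiCompact f]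
    [QuasiSeparated f] : AlgSp.IsLimitPreserving (PicLoc.prePic f 𝓗.G) := by
  intro I _ _ D c hc hD hT
  obtain ⟨hA⟩ := isColimit_ΓAlg k hc hD
  obtain ⟨hG⟩ := nonempty_isColimit 𝓗 (D.op ⋙ PicLoc.ΓAlg k) ((PicLoc.ΓAlg k).mapCocone c.op) hA
  exact isColimit_invCl (isLimit_twCone f 𝓗.G (D.op ⋙ PicLoc.ΓAlg k) ((PicLoc.ΓAlg k).mapCocone c.op) hG)

end Groth.Agent.PicLocLim
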